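import Mathlib.RingTheory.ZariskisMainTheorem
import Mathlib.RingTheory.AdjoinRoot
import Mathlib.RingTheory.Localization.Ideal
import Mathlib.RingTheory.LocalRing.ResidueField.Basic

/-!
A criterion for quasi-finiteness at a point of the closed fibre.
-/

set_option autoImplicit false

universe u v w

namespace Groth.Agent.Vancyc.H159.QFin

open IsLocalRing

variable {A : Type u} {S : Type v} {K : Type w} [CommRing A] [IsLocalRing A] [CommRing S]
  [Algebra A S] [Field K]

/-- The local ring of the closed fibre at the point is finite over the base. -/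
theorem finite_localization_quotient (σ : S →+* K)
    (hm : ∀ a ∈ maximalIdeal A, σ (algebraMap A S a) = 0) (t : S) (p : Polynomial A)
    (hp : p.Monic) (hs : ∀ k : K, ∃ f : Polynomial A, σ (Polynomial.aeval t f) = k)
    (hfib : ∀ y : S, σ y = 0 → ∃ s : S, σ s ≠ 0 ∧
        s * y ∈ (maximalIdeal A).map (algebraMap A S) ⊔ Ideal.span {Polynomial.aeval t p})
    (n : ℕ) (s₀ : S) (hs₀ : σ s₀ ≠ 0)
    (hn : s₀ * Polynomial.aeval t p ^ n ∈ (maximalIdeal A).map (algebraMap A S))
    [(RingHom.ker σ).IsPrime] :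
    Module.Finite A (Localization.AtPrime (RingHom.ker σ) ⧸
      ((RingHom.ker σ).under A).map (algebraMap A (Localization.AtPrime (RingHom.ker σ)))) := by
  set q := RingHom.ker σ with hq
  set L := Localization.AtPrime q with hL
  set J := (q.under A).map (algebraMap A L) with hJ
  have hmA : maximalIdeal A ≤ q.under A := fun a ha => hm a ha
  -- elements of the extension of the maximal ideal die
  have hI : ∀ y ∈ (maximalIdeal A).map (algebraMap A S),
      Ideal.Quotient.mk J (algebraMap S L y) = 0 := by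
    intro y hy
    rw [Ideal.Quotient.eq_zero_iff_mem, hJ, IsScalarTower.algebraMap_eq A S L, ← Ideal.map_map]
    exact Ideal.mem_map_of_mem _ (Ideal.map_mono hmA hy)
  have hu : ∀ s : S, σ s ≠ 0 → IsUnit (Ideal.Quotient.mk J (algebraMap S L s)) := by
    intro s hs
    exact (IsLocalization.map_units (M := q.primeCompl) L ⟨s, hs⟩).map _
  let θ : Polynomial A →ₐ[A] L ⧸ J := Polynomial.aeval (Ideal.Quotient.mk J (algebraMap S L t))
  have hθ : ∀ f : Polynomial A, θ f = Ideal.Quotient.mk J (algebraMap S L (Polynomial.aeval t f)) := by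
    intro f
    let φ : S →ₐ[A] L ⧸ J := (Ideal.Quotient.mkₐ A J).comp (IsScalarTower.toAlgHom A S L)
    exact (Polynomial.aeval_algHom_apply φ t f)
  have hzero : θ (p ^ n) = 0 := by
    rw [hθ, map_pow]
    have h1 := hI _ hn
    rw [map_mul, map_mul] at h1
    exact (hu s₀ hs₀).mul_right_eq_zero.mp h1
  have hfib' : ∀ y : S, σ y = 0 → ∃ c : L ⧸ J, Ideal.Quotient.mk J (algebraMap S L y) = c * θ p := by
    intro y hy
    obtain ⟨s, hs, hsy⟩ := hfib y hy
    obtain ⟨a, ha, b, hb, hab⟩ := Submodule.mem_sup.mp hsy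
    obtain ⟨c, rfl⟩ := Ideal.mem_span_singleton'.mp hb
    obtain ⟨v, hv⟩ := (hu s hs).exists_right_inv
    refine ⟨v * Ideal.Quotient.mk J (algebraMap S L c), ?_⟩
    have h1 : Ideal.Quotient.mk J (algebraMap S L s) * Ideal.Quotient.mk J (algebraMap S L y) =
        Ideal.Quotient.mk J (algebraMap S L c) * θ p := by
      rw [hθ, ← map_mul, ← map_mul, ← map_mul, ← map_mul, ← hab, map_add, map_add, hI a ha,
        zero_add]
    linear_combination v * h1 - Ideal.Quotient.mk J (algebraMap S L y) * hv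
  have hstep : ∀ z : L ⧸ J, ∃ (f : Polynomial A) (c : L ⧸ J), z = θ f + c * θ p := by
    intro z
    obtain ⟨w, rfl⟩ := Ideal.Quotient.mk_surjective z
    obtain ⟨a, s, rfl⟩ := IsLocalization.exists_mk'_eq q.primeCompl w
    have hsK : σ s ≠ 0 := s.2
    obtain ⟨f, hf⟩ := hs (σ a / σ s)
    have h0 : σ (a - s * Polynomial.aeval t f) = 0 := by
      rw [map_sub, map_mul, hf]
      field_simp
      ring
    obtain ⟨c, hc⟩ := hfib' _ h0
    obtain ⟨v, hv⟩ := (hu s hsK).exists_right_inv
    refine ⟨f, v * c, ?_⟩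
    have h1 : Ideal.Quotient.mk J (algebraMap S L s) *
        Ideal.Quotient.mk J (IsLocalization.mk' L a s) = Ideal.Quotient.mk J (algebraMap S L a) := by
      rw [← map_mul, IsLocalization.mk'_spec']
    rw [map_sub, map_sub, map_mul, map_mul, ← hθ] at hc
    linear_combination (-(Ideal.Quotient.mk J (IsLocalization.mk' L a s)) + θ f) * hv + v * h1 +
      v * hc
  have hind : ∀ (j : ℕ) (z : L ⧸ J), ∃ (f : Polynomial A) (c : L ⧸ J), z = θ f + c * θ p ^ j := by
    intro j
    induction j with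
    | zero => exact fun z => ⟨0, z, by simp⟩
    | succ j ih =>
      intro z
      obtain ⟨f, c, hc⟩ := ih z
      obtain ⟨g, d, hd⟩ := hstep c
      refine ⟨f + g * p ^ j, d, ?_⟩
      rw [hc, hd, map_add, map_mul, map_pow]
      ring
  have hpn : (p ^ n).Monic := hp.pow n
  have hfin : Module.Finite A (AdjoinRoot (p ^ n)) := hpn.finite_adjoinRoot
  let Θ : AdjoinRoot (p ^ n) →ₐ[A] L ⧸ J :=
    AdjoinRoot.liftAlgHom (p ^ n) (Algebra.ofId A _) (Ideal.Quotient.mk J (algebraMap S L t)) hzero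
  refine Module.Finite.of_surjective Θ.toLinearMap fun z => ?_
  obtain ⟨f, c, hc⟩ := hind n z
  rw [← map_pow, hzero, mul_zero, add_zero] at hc
  refine ⟨AdjoinRoot.mk _ f, ?_⟩
  rw [hc]
  exact AdjoinRoot.lift_mk (i := (Algebra.ofId A (L ⧸ J) : A →+* L ⧸ J)) hzero f

/-- Quasi-finiteness at the point. -/
theorem quasiFiniteAt [Algebra.FiniteType A S] (σ : S →+* K)
    (hm : ∀ a ∈ maximalIdeal A, σ (algebraMap A S a) = 0) (t : S) (p : Polynomial A)
    (hp : p.Monic) (hs : ∀ k : K, ∃ f : Polynomial A, σ (Polynomial.aeval t f) = k)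
    (hfib : ∀ y : S, σ y = 0 → ∃ s : S, σ s ≠ 0 ∧
        s * y ∈ (maximalIdeal A).map (algebraMap A S) ⊔ Ideal.span {Polynomial.aeval t p})
    (n : ℕ) (s₀ : S) (hs₀ : σ s₀ ≠ 0)
    (hn : s₀ * Polynomial.aeval t p ^ n ∈ (maximalIdeal A).map (algebraMap A S))
    [(RingHom.ker σ).IsPrime] : Algebra.QuasiFiniteAt A (RingHom.ker σ) := by
  have hfin := finite_localization_quotient σ hm t p hp hs hfib n s₀ hs₀ hn
  have : Algebra.WeaklyQuasiFiniteAt A (RingHom.ker σ) := by
    rw [Algebra.weaklyQuasiFiniteAt_iff]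
    infer_instance
  exact Algebra.QuasiFiniteAt.of_weaklyQuasiFiniteAt _

end Groth.Agent.Vancyc.H159.QFin
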