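import Groth.Agent.Vancyc.H159.Param
import Groth.Agent.Vancyc.H159.QFin
import Groth.Agent.Vancyc.H696.Univ
import Groth.Agent.Vancyc.H696.HensTools
import Groth.Agent.Hensel.LocalSplit
import Groth.Agent.S0505

/-!
Finiteness of `A{t}/(g)` over a henselian local ring `A` (Weierstrass).
-/

set_option autoImplicit false

universe u

namespace Groth.Agent.Vancyc.H159.FiniteQuot

open IsLocalRing
open Groth.Agent.Vancyc.H696.Coord Groth.Agent.Vancyc.H696.HullAt Groth.Agent.Vancyc.H696.Univ
open Groth.Agent.Vancyc.H696.HensTools Groth.Agent.Vancyc.H159.Param Groth.Agent.Vancyc.H159.QFin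

/-- An idempotent of a local ring outside the maximal ideal is `1`. -/
theorem eq_one_of_isIdempotentElem {R K : Type*} [CommRing R] [IsLocalRing R] [Field K]
    (p : R →+* K) (hp : Function.Surjective p) (ε : R) (hε : IsIdempotentElem ε) (h1 : p ε ≠ 0) :
    ε = 1 := by
  have hker : RingHom.ker p = maximalIdeal R :=
    eq_maximalIdeal (RingHom.ker_isMaximal_of_surjective p hp)
  have hu : IsUnit ε := by
    by_contra hcon
    have : ε ∈ maximalIdeal R := hcon
    rw [← hker] at this
    exact h1 this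
  exact hu.mul_left_cancel (by rw [hε.eq, mul_one])

/-- A finite algebra over a local ring with a single prime over the maximal ideal is local. -/
theorem isLocalRing_of_finite {A F : Type*} [CommRing A] [IsLocalRing A] [CommRing F] [Algebra A F]
    [Module.Finite A F] (m : Ideal F) [hm : m.IsMaximal]
    (huniq : ∀ m' : Ideal F, m'.IsPrime → m'.LiesOver (maximalIdeal A) → m' = m) :
    IsLocalRing F := by
  refine IsLocalRing.of_unique_max_ideal ⟨m, hm, fun m' hm' => huniq m' hm'.isPrime ⟨?_⟩⟩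
  have : (m'.comap (algebraMap A F)).IsMaximal :=
    Ideal.isMaximal_comap_of_isIntegral_of_isMaximal m'
  exact (IsLocalRing.eq_maximalIdeal this).symm

theorem finite_quotient (A : Type u) [CommRing A] [HenselianLocalRing A] {H K : Type u}
    [CommRing H] [Field K] [Algebra A H] {π : H →+* K} {t : H}
    (h : IsCoord A π (fun _ : Unit => t))
    (hm : ∀ a ∈ maximalIdeal A, π (algebraMap A H a) = 0)
    (hK : ∀ y : K, ∃ p : Polynomial A, p.Monic ∧ p.eval₂ (π.comp (algebraMap A H)) y = 0)
    (hs : Function.Surjective fun p : MvPolynomial Unit A =>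
      π (MvPolynomial.aeval (fun _ => t) p)) (g : H)
    (hg : g ∉ (maximalIdeal A).map (algebraMap A H)) (hg' : π g = 0) :
    Module.Finite A (H ⧸ Ideal.span {g}) := by
  classical
  obtain ⟨E, _, _, e, χ, he, hχe, hgχ⟩ := h.exists_etale {g}
  obtain ⟨G, hG⟩ : ∃ G, χ G = g := hgχ (by simp)
  have hHh : HenselianLocalRing H := h.henselianLocalRing
  let σ : E →+* K := π.comp χ.toRingHom
  have hσ : ∀ s, σ s = π (χ s) := fun s => rfl
  have hσA : ∀ a, σ (algebraMap A E a) = π (algebraMap A H a) := fun a => by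
    rw [hσ, χ.commutes]
  have hσA' : σ.comp (algebraMap A E) = π.comp (algebraMap A H) := RingHom.ext hσA
  have hσm : ∀ a ∈ maximalIdeal A, σ (algebraMap A E a) = 0 := fun a ha => by
    rw [hσA, hm a ha]
  have hσG : ∀ s : E, σ s ≠ 0 → s * G ∉ (maximalIdeal A).map (algebraMap A E) := by
    intro s hs hmem
    have h1 : χ (s * G) ∈ ((maximalIdeal A).map (algebraMap A E)).map χ.toRingHom :=
      Ideal.mem_map_of_mem χ.toRingHom hmem
    rw [Ideal.map_map, show χ.toRingHom.comp (algebraMap A E) = algebraMap A H from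
      χ.comp_algebraMap, map_mul, hG] at h1
    obtain ⟨v, hv⟩ := (h.isUnit_of_ne_zero (χ s) hs).exists_left_inv
    apply hg
    have h2 := Ideal.mul_mem_left _ v h1
    rwa [← mul_assoc, hv, one_mul] at h2
  obtain ⟨p, hpm, hp0, hfib, n, s₀, hs₀, hn⟩ :=
    exists_param he σ hσm (fun y => by rw [hσA']; exact hK y) G hσG
  -- the quotient algebra
  have hGker : ∀ a ∈ Ideal.span {G}, σ a = 0 := by
    intro a ha
    obtain ⟨c, rfl⟩ := Ideal.mem_span_singleton'.mp ha
    rw [map_mul, hσ G, hG, hg', mul_zero]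
  let ν : E →ₐ[A] E ⧸ Ideal.span {G} := Ideal.Quotient.mkₐ A (Ideal.span {G})
  have hν : Function.Surjective ν := Ideal.Quotient.mk_surjective
  let σS : E ⧸ Ideal.span {G} →+* K := Ideal.Quotient.lift _ σ hGker
  have hσS : ∀ a, σS (ν a) = σ a := fun a => Ideal.Quotient.lift_mk _ _ _
  have hqprime : (RingHom.ker σS).IsPrime := RingHom.ker_isPrime σS
  have hET : Algebra.FiniteType A E := finiteType_of_etaleX he
  have hST : Algebra.FiniteType A (E ⧸ Ideal.span {G}) := Algebra.FiniteType.of_surjective ν hν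
  have hev : ∀ f : Polynomial A, ν (Polynomial.aeval (e ()) f) =
      Polynomial.aeval (ν (e ())) f := fun f => (Polynomial.aeval_algHom_apply ν (e ()) f).symm
  have hsupS : ∀ (z y : E), y ∈ (maximalIdeal A).map (algebraMap A E) ⊔ Ideal.span {z} →
      ν y ∈ (maximalIdeal A).map (algebraMap A (E ⧸ Ideal.span {G})) ⊔ Ideal.span {ν z} := by
    intro z y hy
    have h1 : ν y ∈ ((maximalIdeal A).map (algebraMap A E) ⊔ Ideal.span {z}).map ν.toRingHom :=
      Ideal.mem_map_of_mem ν.toRingHom hy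
    rw [Ideal.map_sup, Ideal.map_map, show ν.toRingHom.comp (algebraMap A E) =
      algebraMap A (E ⧸ Ideal.span {G}) from ν.comp_algebraMap, Ideal.map_span,
      Set.image_singleton] at h1
    exact h1
  have hqf : Algebra.QuasiFiniteAt A (RingHom.ker σS) := by
    refine quasiFiniteAt σS (fun a ha => ?_) (ν (e ())) p hpm (fun k => ?_) (fun y hy => ?_) n
      (ν s₀) (by rwa [hσS]) ?_
    · have : algebraMap A (E ⧸ Ideal.span {G}) a = ν (algebraMap A E a) := (ν.commutes a).symm
      rw [this, hσS]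
      exact hσm a ha
    · obtain ⟨r, hr⟩ := hs k
      refine ⟨MvPolynomial.uniqueAlgEquiv A Unit r, ?_⟩
      rw [← hev, hσS, ← aeval_unit, hσ]
      rw [← hr]
      congr 1
      have h1 : χ.comp (MvPolynomial.aeval e) =
          (MvPolynomial.aeval (fun _ => t) : MvPolynomial Unit A →ₐ[A] H) := by
        refine MvPolynomial.algHom_ext fun i => ?_
        simp [hχe]
      exact congr($h1 r)
    · obtain ⟨y, rfl⟩ := hν y
      rw [hσS] at hy
      obtain ⟨s, hs', hsy⟩ := hfib y hy
      refine ⟨ν s, by rwa [hσS], ?_⟩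
      rw [← hev, ← map_mul]
      exact hsupS _ _ hsy
    · have h1 := hsupS _ _ hn
      have h2 : ν G = 0 := Ideal.Quotient.eq_zero_iff_mem.mpr (Ideal.mem_span_singleton_self _)
      rw [h2, Ideal.span_singleton_eq_bot.mpr rfl, sup_bot_eq, map_mul, map_pow, hev] at h1
      exact h1
  have hlies : (RingHom.ker σS).LiesOver (maximalIdeal A) := by
    refine ⟨?_⟩
    apply le_antisymm
    · intro a ha
      change σS (algebraMap A (E ⧸ Ideal.span {G}) a) = 0
      have : algebraMap A (E ⧸ Ideal.span {G}) a = ν (algebraMap A E a) := (ν.commutes a).symm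
      rw [this, hσS]
      exact hσm a ha
    · exact le_maximalIdeal (Ideal.IsPrime.ne_top inferInstance)
  obtain ⟨ε, hε, hεq, hfin, huniq⟩ :=
    Groth.Agent.Hensel.LocalSplit.exists_isIdempotentElem_of_quasiFiniteAt (R := A)
      (RingHom.ker σS)
  -- the finite local algebra
  let F := (E ⧸ Ideal.span {G}) ⧸ Ideal.span {1 - ε}
  have hfinF : Module.Finite A F := hfin
  let μ : (E ⧸ Ideal.span {G}) →ₐ[A] F := Ideal.Quotient.mkₐ A _
  have hμ : Function.Surjective μ := Ideal.Quotient.mk_surjective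
  have hεK : σS ε = 1 := by
    have h1 : σS ε * σS ε = σS ε := by rw [← map_mul, hε.eq]
    have h2 : σS ε ≠ 0 := hεq
    exact mul_left_cancel₀ h2 (by rw [h1, mul_one])
  have hεker : ∀ a ∈ Ideal.span {1 - ε}, σS a = 0 := by
    intro a ha
    obtain ⟨c, rfl⟩ := Ideal.mem_span_singleton'.mp ha
    rw [map_mul, map_sub, hεK, map_one, sub_self, mul_zero]
  let σF : F →+* K := Ideal.Quotient.lift _ σS hεker
  have hσF : ∀ a, σF (μ a) = σS a := fun a => Ideal.Quotient.lift_mk _ _ _
  have hπs : Function.Surjective π := fun k => by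
    obtain ⟨r, hr⟩ := hs k
    exact ⟨_, hr⟩
  have hσs : Function.Surjective σ := fun k => by
    obtain ⟨r, hr⟩ := hs k
    refine ⟨MvPolynomial.aeval e r, ?_⟩
    rw [hσ, ← hr]
    congr 1
    have h1 : χ.comp (MvPolynomial.aeval e) =
        (MvPolynomial.aeval (fun _ => t) : MvPolynomial Unit A →ₐ[A] H) := by
      refine MvPolynomial.algHom_ext fun i => ?_
      simp [hχe]
    exact congr($h1 r)
  have hσFs : Function.Surjective σF := fun k => by
    obtain ⟨a, ha⟩ := hσs k
    exact ⟨μ (ν a), by rw [hσF, hσS, ha]⟩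
  have hmaxF : (RingHom.ker σF).IsMaximal := RingHom.ker_isMaximal_of_surjective σF hσFs
  have hlocF : IsLocalRing F := by
    refine isLocalRing_of_finite (A := A) (RingHom.ker σF) fun m' hm' hl' => ?_
    have h1 : (m'.comap μ.toRingHom) = RingHom.ker σS := by
      refine huniq _ (Ideal.comap_isPrime _ _) ⟨?_⟩ ?_
      · rw [hl'.over]
        ext a
        change algebraMap A F a ∈ m' ↔ μ (algebraMap A _ a) ∈ m'
        rw [μ.commutes]
      · intro hmem
        have h2 : μ ε = 1 := by
          have : μ (1 - ε) = 0 := Ideal.Quotient.eq_zero_iff_mem.mpr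
            (Ideal.mem_span_singleton_self _)
          rw [map_sub, map_one, sub_eq_zero] at this
          exact this.symm
        have h3 : μ ε ∈ m' := hmem
        rw [h2] at h3
        exact hm'.ne_top ((Ideal.eq_top_iff_one _).mpr h3)
    ext z
    obtain ⟨z, rfl⟩ := hμ z
    have h4 : μ z ∈ m' ↔ z ∈ m'.comap μ.toRingHom := Iff.rfl
    rw [h4, h1, RingHom.mem_ker, RingHom.mem_ker, hσF]
  have hhenF : HenselianLocalRing F := Groth.Agent.S0505.result A F
  -- the map from the hull
  have hHull : IsHullAt χ.toRingHom π := by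
    refine h.hull.of_etale (MvPolynomial.aeval e : MvPolynomial Unit A →ₐ[A] E).toRingHom he
      χ.toRingHom ?_
    have h1 : χ.comp (MvPolynomial.aeval e) =
        (MvPolynomial.aeval (fun _ => t) : MvPolynomial Unit A →ₐ[A] H) := by
      refine MvPolynomial.algHom_ext fun i => ?_
      simp [hχe]
    ext a
    · exact congr($h1 (MvPolynomial.C a))
    · exact congr($h1 (MvPolynomial.X _))
  obtain ⟨φ, ⟨hφ1, hφ2⟩, -⟩ := existsUnique_of_surj hHull σF hσFs (RingHom.id K)
    (μ.comp ν).toRingHom (fun r => by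
      change σF (μ (ν r)) = π (χ r)
      rw [hσF, hσS, hσ])
  have hφχ : ∀ r, φ (χ r) = μ (ν r) := fun r => congr($hφ1 r)
  -- the map to the quotient
  let J : Ideal H := Ideal.span {g}
  have hJker : ∀ a ∈ J, π a = 0 := by
    intro a ha
    obtain ⟨c, rfl⟩ := Ideal.mem_span_singleton'.mp ha
    rw [map_mul, hg', mul_zero]
  have hJtop : J ≠ ⊤ := by
    intro htop
    have : (1 : H) ∈ J := by rw [htop]; trivial
    have h1 := hJker 1 this
    rw [map_one] at h1
    exact one_ne_zero h1
  have hhenQ : HenselianLocalRing (H ⧸ J) := henselianLocalRing_quotient H J hJtop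
  let πJ : H ⧸ J →+* K := Ideal.Quotient.lift J π hJker
  have hπJ : ∀ a, πJ (Ideal.Quotient.mk J a) = π a := fun a => Ideal.Quotient.lift_mk _ _ _
  have hπJs : Function.Surjective πJ := fun k => by
    obtain ⟨a, ha⟩ := hπs k
    exact ⟨_, (hπJ a).trans ha⟩
  let ψE : E →ₐ[A] H ⧸ J := (Ideal.Quotient.mkₐ A J).comp χ
  have hψEG : ∀ a ∈ Ideal.span {G}, ψE a = 0 := by
    intro a ha
    obtain ⟨c, rfl⟩ := Ideal.mem_span_singleton'.mp ha
    have : ψE G = 0 := by
      change Ideal.Quotient.mk J (χ G) = 0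
      rw [hG]
      exact Ideal.Quotient.eq_zero_iff_mem.mpr (Ideal.mem_span_singleton_self _)
    rw [map_mul, this, mul_zero]
  let ψS : (E ⧸ Ideal.span {G}) →ₐ[A] H ⧸ J := Ideal.Quotient.liftₐ _ ψE hψEG
  have hψS : ∀ a, ψS (ν a) = Ideal.Quotient.mk J (χ a) := fun a => Ideal.Quotient.lift_mk _ _ _
  have hψSK : ∀ z, πJ (ψS z) = σS z := by
    intro z
    obtain ⟨a, rfl⟩ := hν z
    rw [hψS, hπJ, hσS, hσ]
  have hψε : ψS ε = 1 := by
    refine eq_one_of_isIdempotentElem πJ hπJs (ψS ε) (hε.map ψS) ?_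
    rw [hψSK]
    exact hεq
  have hψSε : ∀ a ∈ Ideal.span {1 - ε}, ψS a = 0 := by
    intro a ha
    obtain ⟨c, rfl⟩ := Ideal.mem_span_singleton'.mp ha
    rw [map_mul, map_sub, hψε, map_one, sub_self, mul_zero]
  let ψ : F →ₐ[A] H ⧸ J := Ideal.Quotient.liftₐ _ ψS hψSε
  have hψ : ∀ z, ψ (μ z) = ψS z := fun z => Ideal.Quotient.lift_mk _ _ _
  have hcomp : (ψ : F →+* H ⧸ J).comp φ = Ideal.Quotient.mk J := by
    refine hom_ext_of_surj hHull πJ hπJs (RingHom.id K) _ _ ?_ ?_ ?_
    · ext r
      change ψ (φ (χ r)) = Ideal.Quotient.mk J (χ r)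
      rw [hφχ, hψ, hψS]
    · intro s
      change πJ (ψ (φ s)) = π s
      obtain ⟨z, hz⟩ := hμ (φ s)
      rw [← hz, hψ, hψSK, ← hσF, hz]
      exact hφ2 s
    · intro s
      exact hπJ s
  refine Module.Finite.of_surjective ψ.toLinearMap fun z => ?_
  obtain ⟨s, rfl⟩ := Ideal.Quotient.mk_surjective z
  exact ⟨φ s, congr($hcomp s)⟩

end Groth.Agent.Vancyc.H159.FiniteQuot
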