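import Mathlib.RingTheory.Unramified.LocalRing
import Mathlib.RingTheory.Filtration
import Mathlib.RingTheory.Localization.Ideal

/-!
Two facts about primes: the maximal ideal of an unramified local algebra, and powers of a local parameter.
-/

set_option autoImplicit false

universe u v

namespace Groth.Agent.Vancyc.H159.Krull

open IsLocalRing

/-- In an unramified algebra the elements of a prime are, up to a factor outside the prime, in the extension of
the contracted prime. -/
theorem exists_mul_mem_map_of_mem {R : Type u} {E : Type v} [CommRing R] [CommRing E] [Algebra R E]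
    [Algebra.EssFiniteType R E] [Algebra.FormallyUnramified R E] (Q : Ideal E) [Q.IsPrime] (y : E)
    (hy : y ∈ Q) : ∃ s : E, s ∉ Q ∧ s * y ∈ (Q.under R).map (algebraMap R E) := by
  let _ := Localization.AtPrime.algebraOfLiesOver (Q.under R) Q
  have h1 := (Algebra.isUnramifiedAt_iff_map_eq R (Q.under R) Q).mp inferInstance
  have h2 : algebraMap E (Localization.AtPrime Q) y ∈ maximalIdeal (Localization.AtPrime Q) := by
    rwa [IsLocalization.AtPrime.to_map_mem_maximal_iff (Localization.AtPrime Q) Q]
  rw [← h1.2, IsScalarTower.algebraMap_eq R E (Localization.AtPrime Q), ← Ideal.map_map,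
    IsLocalization.algebraMap_mem_map_algebraMap_iff Q.primeCompl] at h2
  obtain ⟨s, hs, hsy⟩ := h2
  exact ⟨s, hs, hsy⟩

/-- If a prime of a Noetherian ring is locally generated by `p`, a locally nonzero element divides a power of `p`
up to a factor outside the prime. -/
theorem exists_mul_pow_mem_span {B : Type u} [CommRing B] [IsNoetherianRing B] (Q : Ideal B)
    [Q.IsPrime] (p G : B) (hp : p ∈ Q) (hQ : ∀ y ∈ Q, ∃ s : B, s ∉ Q ∧ s * y ∈ Ideal.span {p})
    (hG : ∀ s : B, s ∉ Q → s * G ≠ 0) :
    ∃ (n : ℕ) (s : B), s ∉ Q ∧ s * p ^ n ∈ Ideal.span {G} := by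
  set D := Localization.AtPrime Q with hD
  have hnoeth : IsNoetherianRing D := IsLocalization.isNoetherianRing Q.primeCompl _ inferInstance
  have hmax : maximalIdeal D = Ideal.span {algebraMap B D p} := by
    apply le_antisymm
    · intro z hz
      obtain ⟨y, s, rfl⟩ := IsLocalization.exists_mk'_eq Q.primeCompl z
      rw [IsLocalization.AtPrime.mk'_mem_maximal_iff D Q] at hz
      obtain ⟨t, ht, hty⟩ := hQ y hz
      have h1 : algebraMap B D y ∈ (Ideal.span {p}).map (algebraMap B D) := by
        rw [IsLocalization.algebraMap_mem_map_algebraMap_iff Q.primeCompl]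
        exact ⟨t, ht, hty⟩
      rw [Ideal.map_span, Set.image_singleton] at h1
      rw [IsLocalization.mk'_eq_mul_mk'_one]
      exact Ideal.mul_mem_right _ _ h1
    · rw [Ideal.span_singleton_le_iff_mem, IsLocalization.AtPrime.to_map_mem_maximal_iff D Q]
      exact hp
  have hG0 : algebraMap B D G ≠ 0 := by
    intro h0
    rw [IsLocalization.map_eq_zero_iff Q.primeCompl] at h0
    obtain ⟨s, hs⟩ := h0
    exact hG s s.2 hs
  have hkr := Ideal.iInf_pow_eq_bot_of_isLocalRing (maximalIdeal D) (Ideal.IsPrime.ne_top')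
  have hex : ∃ n, algebraMap B D G ∉ maximalIdeal D ^ n := by
    by_contra hcon
    push Not at hcon
    apply hG0
    have : algebraMap B D G ∈ (⨅ i : ℕ, maximalIdeal D ^ i) := by
      rw [Ideal.mem_iInf]
      exact hcon
    rwa [hkr, Ideal.mem_bot] at this
  classical
  obtain ⟨n, hn, hmin⟩ : ∃ n, algebraMap B D G ∉ maximalIdeal D ^ (n + 1) ∧
      algebraMap B D G ∈ maximalIdeal D ^ n := by
    have h1 := Nat.find_spec hex
    rcases hk : Nat.find hex with _ | m
    · rw [hk] at h1
      exact absurd (by rw [pow_zero, Ideal.one_eq_top]; trivial) h1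
    · refine ⟨m, by rwa [hk] at h1, ?_⟩
      by_contra h2
      exact absurd (Nat.find_min' hex h2) (by omega)
  rw [hmax, Ideal.span_singleton_pow, Ideal.mem_span_singleton'] at hmin
  obtain ⟨u, hu⟩ := hmin
  have hunit : IsUnit u := by
    by_contra hcon
    apply hn
    have hu' : u ∈ maximalIdeal D := hcon
    rw [← hu, pow_succ']
    refine Ideal.mul_mem_mul hu' ?_
    rw [hmax]
    exact Ideal.pow_mem_pow (Ideal.mem_span_singleton_self _) n
  obtain ⟨v, hv⟩ := hunit.exists_right_inv
  have h3 : algebraMap B D (p ^ n) ∈ (Ideal.span {G}).map (algebraMap B D) := by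
    rw [Ideal.map_span, Set.image_singleton, Ideal.mem_span_singleton', map_pow]
    refine ⟨v, ?_⟩
    rw [← hu]
    linear_combination (algebraMap B D p ^ n) * hv
  rw [IsLocalization.algebraMap_mem_map_algebraMap_iff Q.primeCompl] at h3
  obtain ⟨s, hs, hsp⟩ := h3
  exact ⟨n, s, hs, hsp⟩

end Groth.Agent.Vancyc.H159.Krull
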