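import Groth.Agent.Vancyc.H159.Krull
import Groth.Agent.Vancyc.H696.Coord
import Mathlib.FieldTheory.Minpoly.Field
import Mathlib.Algebra.Polynomial.Lifts
import Mathlib.RingTheory.FiniteType

/-!
A local parameter of an étale algebra over `A[X]` at a point of the closed fibre, algebraic over the residue field.
-/

set_option autoImplicit false

universe u v

namespace Groth.Agent.Vancyc.H159.Param

open IsLocalRing MvPolynomial
open Groth.Agent.Vancyc.H696.Coord Groth.Agent.Vancyc.H159.Krull

theorem aeval_mem_map_of_map_eq_zero {A E : Type*} [CommRing A] [IsLocalRing A] [CommRing E]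
    [Algebra A E] (r : Polynomial A) (hr : r.map (residue A) = 0) (x : E) :
    Polynomial.aeval x r ∈ (maximalIdeal A).map (algebraMap A E) := by
  rw [Polynomial.aeval_eq_sum_range]
  refine Ideal.sum_mem _ fun i _ => ?_
  rw [Algebra.smul_def]
  refine Ideal.mul_mem_right _ _ (Ideal.mem_map_of_mem _ ?_)
  rw [← residue_eq_zero_iff, ← Polynomial.coeff_map, hr, Polynomial.coeff_zero]

/-- A monic lift of the minimal polynomial. -/
theorem exists_monic {A K : Type*} [CommRing A] [IsLocalRing A] [Field K] (ρ : A →+* K)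
    (hm : ∀ a ∈ maximalIdeal A, ρ a = 0) (x : K)
    (hx : ∃ p : Polynomial A, p.Monic ∧ p.eval₂ ρ x = 0) :
    ∃ p : Polynomial A, p.Monic ∧ p.eval₂ ρ x = 0 ∧ ∀ f : Polynomial A, f.eval₂ ρ x = 0 →
      ∃ q : Polynomial A, (f - p * q).map (residue A) = 0 := by
  have hloc : IsLocalHom ρ := ⟨fun a ha => by
    by_contra hcon
    have : a ∈ maximalIdeal A := hcon
    rw [hm a this] at ha
    exact not_isUnit_zero ha⟩
  let ρ' : ResidueField A →+* K := IsLocalRing.ResidueField.lift ρ
  have hρ' : ρ'.comp (residue A) = ρ := IsLocalRing.ResidueField.lift_comp_residue ρ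
  let _ : Algebra (ResidueField A) K := ρ'.toAlgebra
  have hev : ∀ f : Polynomial A, Polynomial.aeval x (f.map (residue A)) = f.eval₂ ρ x := by
    intro f
    rw [Polynomial.aeval_def, Polynomial.eval₂_map]
    change Polynomial.eval₂ (ρ'.comp (residue A)) x f = _
    rw [hρ']
  have hint : IsIntegral (ResidueField A) x := by
    obtain ⟨p, hp, hp0⟩ := hx
    exact ⟨p.map (residue A), hp.map _, (hev p).trans hp0⟩
  obtain ⟨p, hp, -, hpm⟩ := Polynomial.lifts_and_natDegree_eq_and_monic (f := residue A)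
    (p := minpoly (ResidueField A) x)
    (by rw [Polynomial.lifts_iff_coeff_lifts]; exact fun n => residue_surjective _)
    (minpoly.monic hint)
  refine ⟨p, hpm, ?_, fun f hf => ?_⟩
  · rw [← hev, hp, minpoly.aeval]
  · have h1 : minpoly (ResidueField A) x ∣ f.map (residue A) := minpoly.dvd _ _ (by rw [hev, hf])
    obtain ⟨q', hq'⟩ := h1
    obtain ⟨q, hq⟩ := Polynomial.map_surjective (residue A) residue_surjective q'
    exact ⟨q, by rw [Polynomial.map_sub, Polynomial.map_mul, hp, hq, hq', sub_self]⟩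

theorem aeval_unit {A E : Type*} [CommRing A] [CommRing E] [Algebra A E] (e : Unit → E)
    (r : MvPolynomial Unit A) :
    aeval e r = Polynomial.aeval (e ()) (MvPolynomial.uniqueAlgEquiv A Unit r) := by
  have : (aeval e : MvPolynomial Unit A →ₐ[A] E) =
      (Polynomial.aeval (e ())).comp (MvPolynomial.uniqueAlgEquiv A Unit).toAlgHom := by
    ext i
    simp
  exact congr($this r)

variable {A : Type u} {E K : Type u} [CommRing A] [IsLocalRing A] [CommRing E] [Field K]
  [Algebra A E]

theorem finiteType_of_etaleX {A : Type u} {E : Type u} [CommRing A] [CommRing E] [Algebra A E]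
    {e : Unit → E} (he : EtaleX A e) : Algebra.FiniteType A E := by
  let _ := algX (A := A) e
  have := towerX (A := A) e
  have : Algebra.Etale (MvPolynomial Unit A) E := he
  exact Algebra.FiniteType.trans (S := MvPolynomial Unit A) inferInstance inferInstance

/-- A local parameter, and a power of it in the ideal generated by an element not vanishing on the closed fibre. -/
theorem exists_param {e : Unit → E} (he : EtaleX A e) (σ : E →+* K)
    (hm : ∀ a ∈ maximalIdeal A, σ (algebraMap A E a) = 0)
    (hK : ∀ y : K, ∃ p : Polynomial A, p.Monic ∧ p.eval₂ (σ.comp (algebraMap A E)) y = 0)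
    (G : E) (hG : ∀ s : E, σ s ≠ 0 → s * G ∉ (maximalIdeal A).map (algebraMap A E)) :
    ∃ p : Polynomial A, p.Monic ∧ σ (Polynomial.aeval (e ()) p) = 0 ∧
      (∀ y : E, σ y = 0 → ∃ s : E, σ s ≠ 0 ∧
        s * y ∈ (maximalIdeal A).map (algebraMap A E) ⊔ Ideal.span {Polynomial.aeval (e ()) p}) ∧
      ∃ (n : ℕ) (s : E), σ s ≠ 0 ∧
        s * Polynomial.aeval (e ()) p ^ n ∈ (maximalIdeal A).map (algebraMap A E) ⊔ Ideal.span {G} := by
  obtain ⟨p, hpm, hp0, hp⟩ := exists_monic (σ.comp (algebraMap A E)) hm (σ (e ())) (hK _)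
  have hev : ∀ f : Polynomial A, f.eval₂ (σ.comp (algebraMap A E)) (σ (e ())) =
      σ (Polynomial.aeval (e ()) f) := by
    intro f
    rw [Polynomial.aeval_def, Polynomial.hom_eval₂]
  set I := (maximalIdeal A).map (algebraMap A E) with hI
  set x := Polynomial.aeval (e ()) p with hx
  set Q := RingHom.ker σ with hQ
  have hQp : Q.IsPrime := RingHom.ker_isPrime σ
  have hfib : ∀ y : E, σ y = 0 → ∃ s : E, σ s ≠ 0 ∧ s * y ∈ I ⊔ Ideal.span {x} := by
    intro y hy
    let _ := algX (A := A) e
    have := towerX (A := A) e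
    have : Algebra.Etale (MvPolynomial Unit A) E := he
    obtain ⟨s, hs, hsy⟩ := exists_mul_mem_map_of_mem (R := MvPolynomial Unit A) Q y hy
    refine ⟨s, hs, ?_⟩
    have hle : (Q.under (MvPolynomial Unit A)).map (algebraMap (MvPolynomial Unit A) E) ≤
        I ⊔ Ideal.span {x} := by
      rw [Ideal.map_le_iff_le_comap]
      intro r hr
      have hr' : σ (aeval e r) = 0 := hr
      rw [aeval_unit, ← hev] at hr'
      obtain ⟨q, hq⟩ := hp _ hr'
      change aeval e r ∈ I ⊔ Ideal.span {x}
      rw [aeval_unit]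
      have h1 := aeval_mem_map_of_map_eq_zero _ hq (e ())
      rw [map_sub, map_mul] at h1
      have h2 : Polynomial.aeval (e ()) (MvPolynomial.uniqueAlgEquiv A Unit r) =
          (Polynomial.aeval (e ()) (MvPolynomial.uniqueAlgEquiv A Unit r) -
            x * Polynomial.aeval (e ()) q) + x * Polynomial.aeval (e ()) q := by ring
      rw [h2]
      exact add_mem (Ideal.mem_sup_left h1)
        (Ideal.mem_sup_right (Ideal.mul_mem_right _ _ (Ideal.mem_span_singleton_self _)))
    exact hle hsy
  refine ⟨p, hpm, (hev p).symm.trans hp0, hfib, ?_⟩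
  -- the fibre is Noetherian
  have hft := finiteType_of_etaleX he
  have hnoeth : IsNoetherianRing (E ⧸ I) := by
    obtain ⟨m, φ, hφ⟩ := (Algebra.FiniteType.iff_quotient_mvPolynomial'' (R := A) (S := E)).mp hft
    let ψ : MvPolynomial (Fin m) (ResidueField A) →+* E ⧸ I :=
      MvPolynomial.eval₂Hom (Ideal.quotientMap I (algebraMap A E) Ideal.le_comap_map)
        (fun i => Ideal.Quotient.mk I (φ (X i)))
    have hψ : Function.Surjective ψ := by
      intro z
      obtain ⟨z, rfl⟩ := Ideal.Quotient.mk_surjective z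
      obtain ⟨r, rfl⟩ := hφ z
      refine ⟨MvPolynomial.map (residue A) r, ?_⟩
      have : ψ.comp (MvPolynomial.map (residue A)) = (Ideal.Quotient.mk I).comp φ.toRingHom := by
        refine MvPolynomial.ringHom_ext (fun a => ?_) (fun i => ?_)
        · simp only [RingHom.comp_apply, MvPolynomial.map_C]
          rw [MvPolynomial.eval₂Hom_C]
          change Ideal.quotientMap I (algebraMap A E) _ (Ideal.Quotient.mk _ a) = _
          rw [Ideal.quotientMap_mk]
          congr 1
          exact (φ.commutes a).symm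
        · simp [ψ]
      exact congr($this r)
    exact isNoetherianRing_of_surjective _ _ ψ hψ
  have hIQ : I ≤ Q := by
    rw [hI, Ideal.map_le_iff_le_comap]
    intro a ha
    exact hm a ha
  have hker : RingHom.ker (Ideal.Quotient.mk I) ≤ Q := by rwa [Ideal.mk_ker]
  have hQ' : (Q.map (Ideal.Quotient.mk I)).IsPrime :=
    Ideal.map_isPrime_of_surjective Ideal.Quotient.mk_surjective hker
  have hmem : ∀ z : E, Ideal.Quotient.mk I z ∈ Q.map (Ideal.Quotient.mk I) ↔ σ z = 0 := by
    intro z
    rw [← Ideal.mem_comap, Ideal.comap_map_of_surjective _ Ideal.Quotient.mk_surjective,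
      ← RingHom.ker_eq_comap_bot, sup_eq_left.mpr hker]
    rfl
  obtain ⟨n, s, hs, hsn⟩ := exists_mul_pow_mem_span (Q.map (Ideal.Quotient.mk I))
    (Ideal.Quotient.mk I x) (Ideal.Quotient.mk I G) ((hmem x).mpr ((hev p).symm.trans hp0))
    (by
      intro y hy
      obtain ⟨y, rfl⟩ := Ideal.Quotient.mk_surjective y
      obtain ⟨s, hs, hsy⟩ := hfib y ((hmem y).mp hy)
      refine ⟨Ideal.Quotient.mk I s, fun h => hs ((hmem s).mp h), ?_⟩
      obtain ⟨a, ha, b, hb, hab⟩ := Submodule.mem_sup.mp hsy
      rw [← map_mul, ← hab, map_add, Ideal.Quotient.eq_zero_iff_mem.mpr ha, zero_add]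
      obtain ⟨c, rfl⟩ := Ideal.mem_span_singleton'.mp hb
      rw [map_mul]
      exact Ideal.mul_mem_left _ _ (Ideal.mem_span_singleton_self _))
    (by
      intro s hs h0
      obtain ⟨s, rfl⟩ := Ideal.Quotient.mk_surjective s
      rw [← map_mul, Ideal.Quotient.eq_zero_iff_mem] at h0
      exact hG s (fun h => hs ((hmem s).mpr h)) h0)
  obtain ⟨s, rfl⟩ := Ideal.Quotient.mk_surjective s
  refine ⟨n, s, fun h => hs ((hmem s).mpr h), ?_⟩
  rw [← map_pow, ← map_mul, Ideal.mem_span_singleton'] at hsn
  obtain ⟨c, hc⟩ := hsn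
  obtain ⟨c, rfl⟩ := Ideal.Quotient.mk_surjective c
  rw [← map_mul, eq_comm, Ideal.Quotient.eq] at hc
  have h2 : s * x ^ n = (s * x ^ n - c * G) + c * G := by ring
  rw [h2]
  exact add_mem (Ideal.mem_sup_left hc)
    (Ideal.mem_sup_right (Ideal.mul_mem_left _ _ (Ideal.mem_span_singleton_self _)))

end Groth.Agent.Vancyc.H159.Param
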